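import Groth.Agent.Lib.SkLift5.Basic
import Groth.Agent.Lib.FlatOff.FourTerm
import Groth.Agent.Lib.BEExact.Criterion
import Groth.Agent.Lib.Depth.CM
import Groth.Agent.Lib.Depth.DimFiltration
import Mathlib.LinearAlgebra.Pi
import Mathlib.RingTheory.Support

/-!
# Depth and dimension along an irreducible closed subset
-/

set_option autoImplicit false
set_option linter.style.haveILetI false

universe u

open IsLocalRing Function

namespace GrothLib.DepthAlong5

variable {A : Type u} [CommRing A] [IsNoetherianRing A]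

/-- The depth at `q`. -/
noncomputable abbrev dep (q : Ideal A) [q.IsPrime] (M : Type u) [AddCommGroup M] [Module A M] : ℕ∞ :=
  LocCoh.depth (Localization.AtPrime q) (LocalizedModule q.primeCompl M)

/-- The dimension at `q`. -/
noncomputable abbrev sdim (q : Ideal A) [q.IsPrime] (M : Type u) [AddCommGroup M] [Module A M] : WithBot ℕ∞ :=
  Module.supportDim (Localization.AtPrime q) (LocalizedModule q.primeCompl M)

section Transfer

variable {M N P : Type u} [AddCommGroup M] [Module A M] [AddCommGroup N] [Module A N] [AddCommGroup P] [Module A P]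

theorem finite_localized [Module.Finite A M] (q : Ideal A) [q.IsPrime] :
    Module.Finite (Localization.AtPrime q) (LocalizedModule q.primeCompl M) :=
  Module.Finite.of_isLocalizedModule q.primeCompl (LocalizedModule.mkLinearMap q.primeCompl M)

theorem dep_of_subsingleton (q : Ideal A) [q.IsPrime] [Subsingleton (LocalizedModule q.primeCompl M)] :
    dep q M = ⊤ :=
  GrothLib.Depth.depth_eq_top_of_subsingleton _

theorem dep_congr [Module.Finite A M] [Module.Finite A N] (q : Ideal A) [q.IsPrime] (g : M →ₗ[A] N)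
    (f : A) (hf : f ∉ q) (hker : ∀ m, g m = 0 → f • m = 0) (hcok : ∀ n, ∃ m, g m = f • n) :
    dep q M = dep q N ∧ sdim q M = sdim q N := by
  haveI := GrothLib.Depth.isNoetherian_atPrime q
  haveI := finite_localized (M := M) q
  haveI := finite_localized (M := N) q
  let L := LocalizedModule.map q.primeCompl g
  have hbij : Bijective L := by
    constructor
    · rw [injective_iff_map_eq_zero]
      intro z hz
      induction z using LocalizedModule.induction_on with
      | h m s =>
        rw [LocalizedModule.map_mk, ← LocalizedModule.zero_mk (1 : q.primeCompl), LocalizedModule.mk_eq] at hz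
        obtain ⟨v, hv⟩ := hz
        rw [one_smul, smul_zero, smul_zero, Submonoid.smul_def] at hv
        rw [← LocalizedModule.zero_mk (1 : q.primeCompl), LocalizedModule.mk_eq]
        refine ⟨⟨f, hf⟩ * v, ?_⟩
        rw [one_smul, smul_zero, smul_zero, mul_smul, Submonoid.smul_def, Submonoid.smul_def]
        exact hker _ ((map_smul g (v : A) m).trans hv)
    · intro z
      induction z using LocalizedModule.induction_on with
      | h n s =>
        obtain ⟨m, hm⟩ := hcok n
        refine ⟨LocalizedModule.mk m (⟨f, hf⟩ * s), ?_⟩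
        rw [LocalizedModule.map_mk, hm]
        exact LocalizedModule.mk_cancel_common_left ⟨f, hf⟩ s n
  exact ⟨GrothLib.Depth.idealDepth_eq_of_equiv _ (LinearEquiv.ofBijective L hbij),
    Module.supportDim_eq_of_equiv (LinearEquiv.ofBijective L hbij)⟩

theorem subsingleton_of_smul_eq_zero (q : Ideal A) [q.IsPrime] (f : A) (hf : f ∉ q) (h : ∀ m : M, f • m = 0) :
    Subsingleton (LocalizedModule q.primeCompl M) :=
  LocalizedModule.subsingleton_iff.2 fun m => ⟨f, hf, h m⟩

theorem exists_smul_eq_zero (q : Ideal A) [q.IsPrime] [Module.Finite A M]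
    [Subsingleton (LocalizedModule q.primeCompl M)] : ∃ f, f ∉ q ∧ ∀ m : M, f • m = 0 := by
  have h : (⟨q, inferInstance⟩ : PrimeSpectrum A) ∉ Module.support A M := Module.notMem_support_iff.2 ‹_›
  rw [Module.mem_support_iff_of_finite, SetLike.not_le_iff_exists] at h
  obtain ⟨f, hf, hfq⟩ := h
  exact ⟨f, hfq, Module.mem_annihilator.1 hf⟩

variable [Module.Finite A M] [Module.Finite A N] [Module.Finite A P]
  (i : M →ₗ[A] N) (π : N →ₗ[A] P) (hi : Injective i) (hπ : Surjective π) (hex : Exact i π)

include hi hπ hex in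
theorem le_dep_mid (q : Ideal A) [q.IsPrime] (n : ℕ) (hM : (n : ℕ∞) ≤ dep q M) (hP : (n : ℕ∞) ≤ dep q P) :
    (n : ℕ∞) ≤ dep q N := by
  haveI := GrothLib.Depth.isNoetherian_atPrime q
  haveI := finite_localized (M := M) q
  haveI := finite_localized (M := N) q
  haveI := finite_localized (M := P) q
  exact GrothLib.FlatOff.le_idealDepth_mid (B := Localization.AtPrime q) _ n (LocalizedModule.map q.primeCompl i)
    (LocalizedModule.map q.primeCompl π) (LocalizedModule.map_injective _ i hi)
    (LocalizedModule.map_surjective _ π hπ) (LocalizedModule.map_exact _ i π hex) hM hP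

include hi hπ hex in
theorem le_dep_left (q : Ideal A) [q.IsPrime] (n : ℕ) (hN : ((n + 1 : ℕ) : ℕ∞) ≤ dep q N)
    (hP : (n : ℕ∞) ≤ dep q P) : ((n + 1 : ℕ) : ℕ∞) ≤ dep q M := by
  haveI := GrothLib.Depth.isNoetherian_atPrime q
  haveI := finite_localized (M := M) q
  haveI := finite_localized (M := N) q
  haveI := finite_localized (M := P) q
  exact GrothLib.FlatOff.le_idealDepth_left (B := Localization.AtPrime q) _ (LocalizedModule.map q.primeCompl i)
    (LocalizedModule.map q.primeCompl π) (LocalizedModule.map_injective _ i hi)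
    (LocalizedModule.map_surjective _ π hπ) (LocalizedModule.map_exact _ i π hex) n hN hP

include hi hπ hex in
omit [IsNoetherianRing A] [Module.Finite A M] [Module.Finite A N] [Module.Finite A P] in
theorem sdim_mid (q : Ideal A) [q.IsPrime] : sdim q N = max (sdim q M) (sdim q P) := by
  refine le_antisymm (GrothLib.Depth.supportDim_le_max_of_exact _ _ (LocalizedModule.map_injective _ i hi)
    (LocalizedModule.map_surjective _ π hπ) (LocalizedModule.map_exact _ i π hex)) (max_le ?_ ?_)
  · exact Module.supportDim_le_of_injective _ (LocalizedModule.map_injective _ i hi)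
  · exact Module.supportDim_le_of_surjective _ (LocalizedModule.map_surjective _ π hπ)

omit [Module.Finite A P] in
theorem le_dep_of_retract (r : N →ₗ[A] M) (h : r ∘ₗ i = LinearMap.id) (q : Ideal A) [q.IsPrime] (n : ℕ)
    (hN : (n : ℕ∞) ≤ dep q N) : (n : ℕ∞) ≤ dep q M := by
  haveI := GrothLib.Depth.isNoetherian_atPrime q
  haveI := finite_localized (M := M) q
  haveI := finite_localized (M := N) q
  refine GrothLib.BEExact.le_idealDepth_of_retract _ n (LocalizedModule.map q.primeCompl i)
    (LocalizedModule.map q.primeCompl r) (LinearMap.ext fun z => ?_) hN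
  induction z using LocalizedModule.induction_on with
  | h m s =>
    rw [LinearMap.comp_apply, LocalizedModule.map_mk, LocalizedModule.map_mk]
    exact congrArg (LocalizedModule.mk · s) (LinearMap.congr_fun h m)

end Transfer

section Quotient

variable (p : Ideal A) [p.IsPrime]

theorem support_quotient : Module.support A (A ⧸ p) = PrimeSpectrum.zeroLocus (p : Set A) := by
  rw [Module.support_eq_zeroLocus, Ideal.annihilator_quotient]

theorem nontrivial_localized_quotient {q : Ideal A} [q.IsPrime] (h : p ≤ q) :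
    Nontrivial (LocalizedModule q.primeCompl (A ⧸ p)) := by
  have : (⟨q, inferInstance⟩ : PrimeSpectrum A) ∈ Module.support A (A ⧸ p) := by rw [support_quotient]; exact h
  exact Module.mem_support_iff.1 this

theorem exists_dep_quotient_eq {q : Ideal A} [q.IsPrime] (h : p ≤ q) :
    ∃ n : ℕ, dep q (A ⧸ p) = n ∧ ¬ ((n + 1 : ℕ) : ℕ∞) ≤ dep q (A ⧸ p) := by
  haveI := GrothLib.Depth.isNoetherian_atPrime q
  haveI := nontrivial_localized_quotient p h
  haveI := finite_localized (M := A ⧸ p) q
  obtain ⟨n, hn⟩ := ENat.ne_top_iff_exists.1 (GrothLib.Depth.idealDepth_ne_top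
    (R := Localization.AtPrime q) (M := LocalizedModule q.primeCompl (A ⧸ p)) (maximalIdeal.isMaximal _).ne_top)
  refine ⟨n, hn.symm, fun h' => ?_⟩
  rw [show dep q (A ⧸ p) = n from hn.symm] at h'
  exact Nat.not_succ_le_self n (by exact_mod_cast h')

theorem sdim_quotient_self : sdim p (A ⧸ p) = 0 := by
  rw [sdim, GrothLib.GrLC.supportDim_localized]
  have hp : (⟨p, inferInstance⟩ : PrimeSpectrum A) ∈ Module.support A (A ⧸ p) := by
    rw [support_quotient]; exact le_rfl (a := p)
  haveI : Nonempty {q : PrimeSpectrum A // q ∈ Module.support A (A ⧸ p) ∧ q.asIdeal ≤ p} := ⟨⟨_, hp, le_rfl⟩⟩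
  haveI : Subsingleton {q : PrimeSpectrum A // q ∈ Module.support A (A ⧸ p) ∧ q.asIdeal ≤ p} := ⟨fun a c => by
    have key : ∀ z : {q : PrimeSpectrum A // q ∈ Module.support A (A ⧸ p) ∧ q.asIdeal ≤ p}, z.1.asIdeal = p :=
      fun z => le_antisymm z.2.2 ((Set.ext_iff.1 (support_quotient p) z.1).1 z.2.1)
    exact Subtype.ext (PrimeSpectrum.ext ((key a).trans (key c).symm))⟩
  exact Order.krullDim_eq_zero

theorem dep_quotient_self : dep p (A ⧸ p) = 0 := by
  haveI := GrothLib.Depth.isNoetherian_atPrime p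
  haveI := nontrivial_localized_quotient p (le_refl p)
  haveI := finite_localized (M := A ⧸ p) p
  have h := GrothLib.Depth.depth_le_supportDim (Localization.AtPrime p) (LocalizedModule p.primeCompl (A ⧸ p))
  have h' : ((dep p (A ⧸ p) : ℕ∞) : WithBot ℕ∞) ≤ ((0 : ℕ∞) : WithBot ℕ∞) := h.trans (le_of_eq (sdim_quotient_self p))
  exact nonpos_iff_eq_zero.1 (WithBot.coe_le_coe.1 h')

theorem le_dep_pi (q : Ideal A) [q.IsPrime] (n : ℕ) (h : (n : ℕ∞) ≤ dep q (A ⧸ p)) :
    ∀ r : ℕ, (n : ℕ∞) ≤ dep q (Fin r → A ⧸ p) := by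
  intro r
  induction r with
  | zero =>
    haveI : Subsingleton (LocalizedModule q.primeCompl (Fin 0 → A ⧸ p)) :=
      subsingleton_of_smul_eq_zero q 1 (fun h => (inferInstance : q.IsPrime).ne_top ((Ideal.eq_top_iff_one q).2 h))
        (fun m => Subsingleton.elim _ _)
    rw [dep_of_subsingleton]
    exact le_top
  | succ r ih =>
    refine le_dep_mid (LinearMap.single A (fun _ : Fin (r + 1) => A ⧸ p) 0)
      (LinearMap.funLeft A (A ⧸ p) Fin.succ) (fun a c h => by simpa using congrFun h 0)
      (fun v => ⟨Fin.cons 0 v, funext fun i => by rw [LinearMap.funLeft_apply, Fin.cons_succ]⟩) (fun v => ?_) q n h ih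
    constructor
    · intro hv
      refine ⟨v 0, funext fun i => ?_⟩
      refine Fin.cases ?_ (fun j => ?_) i
      · simp
      · simpa using (congrFun hv j).symm
    · rintro ⟨c, rfl⟩
      funext j
      simp [LinearMap.funLeft_apply]

/-- A finite module killed by `p` is generically free. -/
theorem exists_free_part (N : Type u) [AddCommGroup N] [Module A N] [Module.Finite A N]
    (hN : ∀ a ∈ p, ∀ m : N, a • m = 0) :
    ∃ (f : A) (r : ℕ) (g : (Fin r → A ⧸ p) →ₗ[A] N), f ∉ p ∧ Injective g ∧ ∀ n, ∃ v, g v = f • n := by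
  classical
  have hann : p ≤ Module.annihilator A N := fun a ha => Module.mem_annihilator.2 (hN a ha)
  letI : Module (A ⧸ p) N := (Module.IsTorsionBySet.module (I := p) fun m a => hN a a.2 m)
  haveI : IsScalarTower A (A ⧸ p) N := ⟨fun c d m => by
    obtain ⟨d, rfl⟩ := Ideal.Quotient.mk_surjective d
    show (c • Ideal.Quotient.mk p d) • m = c • (Ideal.Quotient.mk p d • m)
    exact (show Ideal.Quotient.mk p (c • d) • m = _ from mul_smul c d m)⟩
  haveI : Module.Finite (A ⧸ p) N := Module.Finite.of_restrictScalars_finite A (A ⧸ p) N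
  obtain ⟨s, hs⟩ := (Module.Finite.fg_top : (⊤ : Submodule (A ⧸ p) N).FG)
  obtain ⟨t, hts, htli, hmax⟩ : ∃ t, t ⊆ s ∧ LinearIndepOn (A ⧸ p) id (↑t : Set N) ∧
      ∀ t', t' ⊆ s → LinearIndepOn (A ⧸ p) id (↑t' : Set N) → t ⊆ t' → t' = t := by
    obtain ⟨t, ht, hmax⟩ := Finset.exists_maximal (s := s.powerset.filter fun t : Finset N => LinearIndepOn (A ⧸ p) id (↑t : Set N))
      ⟨∅, Finset.mem_filter.2 ⟨Finset.empty_mem_powerset s, by simp⟩⟩
    rw [Finset.mem_filter, Finset.mem_powerset] at ht
    exact ⟨t, ht.1, ht.2, fun t' h1 h2 h3 => le_antisymm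
      (hmax (Finset.mem_filter.2 ⟨Finset.mem_powerset.2 h1, h2⟩) h3) h3⟩
  let e := t.equivFin
  let g₀ : (Fin t.card → A ⧸ p) →ₗ[A ⧸ p] N := Fintype.linearCombination (A ⧸ p) fun i => (e.symm i : N)
  have hg₀ : Injective g₀ :=
    (linearIndependent_iff_injective_fintypeLinearCombination).1
      (htli.linearIndependent.comp _ e.symm.injective)
  have key : ∀ x ∈ s, ∃ c : A, c ∉ p ∧ ∃ v, g₀ v = c • x := by
    intro x hx
    by_cases hxt : x ∈ t
    · refine ⟨1, fun h => (inferInstance : p.IsPrime).ne_top ((Ideal.eq_top_iff_one p).2 h),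
        Pi.single (e ⟨x, hxt⟩) 1, ?_⟩
      rw [Fintype.linearCombination_apply_single, Equiv.symm_apply_apply, one_smul, one_smul]
    · have hni : ¬ LinearIndepOn (A ⧸ p) id (↑(insert x t) : Set N) := fun h => by
        have := hmax _ (Finset.insert_subset hx hts) h (Finset.subset_insert x t)
        exact hxt (this ▸ Finset.mem_insert_self x t)
      have hx' : ∃ a : A ⧸ p, a ≠ 0 ∧ a • x ∈ Submodule.span (A ⧸ p) (↑t : Set N) := by
        by_contra hc
        push Not at hc
        refine hni ?_
        rw [Finset.coe_insert, Set.insert_eq, Set.union_comm]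
        refine htli.id_union (show LinearIndependent (A ⧸ p) _ from Fintype.linearIndependent_iff.2
          fun c' hc' i => by_contra fun h0 => hc (c' i) h0 ?_) ?_
        · haveI : Unique ↥({x} : Set N) := Set.uniqueSingleton x
          rw [Fintype.sum_unique, Subsingleton.elim (default : ↥({x} : Set N)) i, show id (i : N) = x from i.2] at hc'
          rw [hc']
          exact zero_mem _
        · rw [Submodule.disjoint_def]
          intro z hz hz'
          obtain ⟨a, rfl⟩ := Submodule.mem_span_singleton.1 hz'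
          rcases eq_or_ne a 0 with rfl | h0
          · exact zero_smul _ _
          · exact absurd hz (hc a h0)
      obtain ⟨a, ha, hax⟩ := hx'
      obtain ⟨c, rfl⟩ := Ideal.Quotient.mk_surjective a
      refine ⟨c, fun h => ha (Ideal.Quotient.eq_zero_iff_mem.2 h), ?_⟩
      have hrange : Submodule.span (A ⧸ p) (↑t : Set N) = LinearMap.range g₀ := by
        rw [Fintype.range_linearCombination]
        congr 1
        ext z
        exact ⟨fun hz => ⟨e ⟨z, hz⟩, by simp⟩, fun ⟨i, hi⟩ => hi ▸ (e.symm i).2⟩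
      rw [hrange] at hax
      obtain ⟨v, hv⟩ := hax
      exact ⟨v, hv.trans (algebraMap_smul (A ⧸ p) c x)⟩
  choose! c hc hv using key
  refine ⟨∏ x ∈ s, c x, t.card, g₀.restrictScalars A, fun h => ?_, hg₀, fun n => ?_⟩
  · obtain ⟨x, hx, hx'⟩ := (Ideal.IsPrime.prod_mem_iff).1 h
    exact hc x hx hx'
  · have hn : n ∈ Submodule.span (A ⧸ p) (↑s : Set N) := hs.ge Submodule.mem_top
    induction hn using Submodule.span_induction with
    | mem x hx =>
      obtain ⟨v, hv⟩ := hv x hx
      obtain ⟨d, hd⟩ := Finset.dvd_prod_of_mem c hx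
      refine ⟨d • v, ?_⟩
      rw [map_smul, LinearMap.restrictScalars_apply, hv, hd, smul_smul, mul_comm]
    | zero => exact ⟨0, by rw [map_zero, smul_zero]⟩
    | add x y _ _ hx hy =>
      obtain ⟨v, hv⟩ := hx
      obtain ⟨w, hw⟩ := hy
      exact ⟨v + w, by rw [map_add, hv, hw, smul_add]⟩
    | smul a x _ hx =>
      obtain ⟨v, hv⟩ := hx
      obtain ⟨a, rfl⟩ := Ideal.Quotient.mk_surjective a
      refine ⟨a • v, ?_⟩
      rw [map_smul, hv, smul_comm]
      exact congrArg _ (algebraMap_smul (A ⧸ p) a x).symm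

/-- Depth of modules killed by a power of `p`. -/
theorem exists_dep_eq_of_torsion : ∀ (k : ℕ) (N : Type u) [AddCommGroup N] [Module A N] [Module.Finite A N],
    (∀ a ∈ p ^ k, ∀ m : N, a • m = 0) → ∃ f, f ∉ p ∧ ∀ (q : Ideal A) [q.IsPrime], p ≤ q → f ∉ q →
      dep q (A ⧸ p) ≤ dep q N ∧ (Nontrivial (LocalizedModule p.primeCompl N) → dep q N = dep q (A ⧸ p)) := by
  intro k
  induction k with
  | zero =>
    intro N _ _ _ hN
    refine ⟨1, fun h => (inferInstance : p.IsPrime).ne_top ((Ideal.eq_top_iff_one p).2 h), fun q hq _ h1 => ?_⟩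
    have h0 : ∀ m : N, (1 : A) • m = 0 := fun m => hN 1 (by simp) m
    haveI := subsingleton_of_smul_eq_zero q 1 h1 h0
    refine ⟨by rw [dep_of_subsingleton (M := N)]; exact le_top, fun hnt => ?_⟩
    haveI := subsingleton_of_smul_eq_zero p 1
      (fun h => (inferInstance : p.IsPrime).ne_top ((Ideal.eq_top_iff_one p).2 h)) h0
    exact absurd hnt (not_nontrivial _)
  | succ k ih =>
    intro N _ _ _ hN
    let N₁ : Submodule A N := Submodule.torsionBySet A N (p : Set A)
    have hN₁ : ∀ a ∈ p, ∀ m : ↥N₁, a • m = 0 := fun a ha m =>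
      Subtype.ext ((Submodule.mem_torsionBySet_iff _ _).1 m.2 ⟨a, ha⟩)
    have hN₂ : ∀ a ∈ p ^ k, ∀ m : N ⧸ N₁, a • m = 0 := fun a ha m => by
      obtain ⟨m, rfl⟩ := Submodule.Quotient.mk_surjective _ m
      rw [← Submodule.Quotient.mk_smul, Submodule.Quotient.mk_eq_zero]
      refine (Submodule.mem_torsionBySet_iff _ _).2 fun c => ?_
      rw [smul_smul]
      exact hN _ (by rw [pow_succ']; exact Ideal.mul_mem_mul c.2 ha) m
    obtain ⟨f₁, r, g, hf₁, hg, hgs⟩ := exists_free_part p ↥N₁ hN₁
    obtain ⟨f₂, hf₂, H₂⟩ := ih (N ⧸ N₁) hN₂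
    refine ⟨f₁ * f₂, fun h => ((inferInstance : p.IsPrime).mem_or_mem h).elim hf₁ hf₂, fun q hq hpq hfq => ?_⟩
    have hf₁q : f₁ ∉ q := fun h => hfq (Ideal.mul_mem_right _ _ h)
    obtain ⟨h2, -⟩ := H₂ q hpq fun h => hfq (Ideal.mul_mem_left _ _ h)
    obtain ⟨e₁, -⟩ := dep_congr q g f₁ hf₁q
      (fun m hm => by rw [hg (hm.trans (map_zero g).symm), smul_zero]) hgs
    obtain ⟨n, hn, hn'⟩ := exists_dep_quotient_eq p hpq
    have hpi := le_dep_pi p q n hn.ge r
    have hexact : Exact N₁.subtype N₁.mkQ := fun y => by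
      rw [Submodule.mkQ_apply, Submodule.Quotient.mk_eq_zero]
      simp
    refine ⟨hn.le.trans (le_dep_mid N₁.subtype N₁.mkQ N₁.injective_subtype N₁.mkQ_surjective hexact q n
      (hpi.trans_eq e₁) (hn.ge.trans h2)), fun hnt => ?_⟩
    refine le_antisymm ?_ (hn.le.trans (le_dep_mid N₁.subtype N₁.mkQ N₁.injective_subtype N₁.mkQ_surjective hexact q n
      (hpi.trans_eq e₁) (hn.ge.trans h2)))
    by_contra hlt
    have hlt' : ((n + 1 : ℕ) : ℕ∞) ≤ dep q N := by
      rw [hn] at hlt
      rw [Nat.cast_succ]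
      exact Order.add_one_le_of_lt (not_le.1 hlt)
    have hl := le_dep_left N₁.subtype N₁.mkQ N₁.injective_subtype N₁.mkQ_surjective hexact q n hlt' (hn.ge.trans h2)
    rw [← e₁] at hl
    rcases Nat.eq_zero_or_pos r with hr | hr
    · subst hr
      have hkill : ∀ (m : N), (∀ a ∈ p, a • m = 0) → f₁ • m = 0 := fun m hm => by
        obtain ⟨v, hv⟩ := hgs ⟨m, (Submodule.mem_torsionBySet_iff _ _).2 fun a => hm a a.2⟩
        rw [Subsingleton.elim v 0, map_zero] at hv
        exact (congrArg Subtype.val hv).symm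
      obtain ⟨sp, hsp⟩ := IsNoetherian.noetherian p
      have hloc : ∀ (j : ℕ) (m : N), (∀ a ∈ p ^ j, ∃ u ∉ p, u • a • m = 0) → ∃ u ∉ p, u • m = 0 := by
        intro j
        induction j with
        | zero =>
          intro m hm
          obtain ⟨u, hu, hum⟩ := hm 1 (by simp)
          exact ⟨u, hu, by simpa using hum⟩
        | succ j ihj =>
          intro m hm
          refine ihj m fun a ha => ?_
          have : ∀ c ∈ p, ∃ u ∉ p, u • c • a • m = 0 := fun c hc => by
            obtain ⟨u, hu, hum⟩ := hm (c * a) (by rw [pow_succ']; exact Ideal.mul_mem_mul hc ha)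
            exact ⟨u, hu, by rw [← mul_smul c a m]; exact hum⟩
          choose! u hu hum using this
          have hU : ∏ c ∈ sp, u c ∉ p := fun h => by
            obtain ⟨c, hc, hc'⟩ := (Ideal.IsPrime.prod_mem_iff).1 h
            exact hu c (hsp ▸ Submodule.subset_span hc) hc'
          refine ⟨f₁ * ∏ c ∈ sp, u c, fun h => ((inferInstance : p.IsPrime).mem_or_mem h).elim hf₁ hU, ?_⟩
          rw [mul_smul]
          refine hkill _ fun c hc => ?_
          rw [← hsp] at hc
          induction hc using Submodule.span_induction with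
          | mem c hc =>
            obtain ⟨d, hd⟩ := Finset.dvd_prod_of_mem u hc
            rw [hd, mul_comm (u c) d, mul_smul, smul_comm c d, smul_comm c (u c),
              hum c (hsp ▸ Submodule.subset_span hc), smul_zero]
          | zero => rw [zero_smul]
          | add x y _ _ hx hy => rw [add_smul, hx, hy, add_zero]
          | smul z x _ hx => rw [smul_assoc, hx, smul_zero]
      refine not_subsingleton_iff_nontrivial.2 hnt (LocalizedModule.subsingleton_iff.2 fun m => ?_)
      exact hloc (k + 1) m fun a ha => ⟨1, fun h => (inferInstance : p.IsPrime).ne_top ((Ideal.eq_top_iff_one p).2 h),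
        by rw [one_smul, hN a ha m]⟩
    · exact hn' (le_dep_of_retract (LinearMap.single A (fun _ : Fin r => A ⧸ p) ⟨0, hr⟩) (LinearMap.proj ⟨0, hr⟩)
        (LinearMap.ext fun x => by simp) q (n + 1) hl)

end Quotient

end GrothLib.DepthAlong5
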